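import Mathlib.LinearAlgebra.Dimension.Constructions
import Mathlib.LinearAlgebra.FiniteDimensional.Lemmas
import Mathlib.FieldTheory.IsAlgClosed.Basic
import Mathlib.FieldTheory.IsSepClosed
import Mathlib.FieldTheory.Perfect
import Mathlib.FieldTheory.Separable
import Mathlib.Algebra.CharP.Lemmas
import Mathlib.RingTheory.Artinian.Module
import Mathlib.LinearAlgebra.Dimension.OrzechProperty
import Mathlib.LinearAlgebra.Basis.VectorSpace
import Mathlib.Algebra.Polynomial.RingDivision

/-!
# Lang's theorem for semilinear maps over a field with solvable twisted equations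
-/

set_option autoImplicit false
universe u v

namespace Groth.Agent.SigmaLang

open Module

variable {k : Type u} [Field k] {σ : k →+* k}

/-- The twisted linear equations have nonzero solutions. -/
def TwistRoots (σ : k →+* k) : Prop :=
  ∀ (n : ℕ) (b : Fin (n + 1) → k), b ≠ 0 →
    ∃ x : k, x ≠ 0 ∧ x = ∑ i : Fin (n + 1), (⇑σ)^[i.val + 1] x * (⇑σ)^[i.val] (b (Fin.rev i))

/-- The Artin–Schreier equations are solvable. -/
def SubSurj (σ : k →+* k) : Prop := ∀ c : k, ∃ y : k, σ y - y + c = 0

section
variable {V : Type v} [AddCommGroup V] [Module k V] [FiniteDimensional k V]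

theorem linearIndependent_map (T : V →ₛₗ[σ] V) (h1 : Submodule.span k (Set.range ⇑T) = ⊤) {ι : Type}
    [Fintype ι] {e : ι → V} (he : LinearIndependent k e) : LinearIndependent k (fun i => T (e i)) := by
  classical
  let b := Module.finBasis k V
  have hspan : ⊤ ≤ Submodule.span k (Set.range fun j => T (b j)) := by
    rw [← h1, Submodule.span_le]
    rintro _ ⟨v, rfl⟩
    rw [← b.sum_repr v, map_sum]
    exact Submodule.sum_mem _ fun j _ => by
      rw [map_smulₛₗ]
      exact Submodule.smul_mem _ _ (Submodule.subset_span ⟨j, rfl⟩)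
  have hli := linearIndependent_of_top_le_span_of_card_eq_finrank hspan (by simp)
  have hinj : ∀ v, T v = 0 → v = 0 := by
    intro v hv
    rw [← b.sum_repr v, map_sum] at hv
    simp only [map_smulₛₗ] at hv
    have h := Fintype.linearIndependent_iff.1 hli (fun j => σ (b.repr v j)) hv
    rw [← b.sum_repr v]
    exact Finset.sum_eq_zero fun j _ => by
      rw [(map_eq_zero σ).1 (h j), zero_smul]
  -- extend `e` to a basis
  let bx := Basis.extend (linearIndependent_subtype_iff.1 (he.linearIndepOn_id' rfl))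
  have hspan' : ⊤ ≤ Submodule.span k (Set.range fun j => T (bx j)) := by
    rw [← h1, Submodule.span_le]
    rintro _ ⟨v, rfl⟩
    rw [← bx.sum_repr v, map_sum]
    exact Submodule.sum_mem _ fun j _ => by
      rw [map_smulₛₗ]
      exact Submodule.smul_mem _ _ (Submodule.subset_span ⟨j, rfl⟩)
  have hli' := linearIndependent_of_top_le_span_of_card_eq_finrank hspan'
    (Module.finrank_eq_card_basis bx).symm
  have := hli'.comp (fun i => ⟨e i, Basis.subset_extend _ ⟨i, rfl⟩⟩)
    (fun i j h => he.injective (congrArg Subtype.val h))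
  simpa [bx, Function.comp_def] using this

theorem exists_fixed_ne_zero [Nontrivial V] (T : V →ₛₗ[σ] V)
    (h1 : Submodule.span k (Set.range ⇑T) = ⊤) (h2 : TwistRoots σ) : ∃ w : V, w ≠ 0 ∧ T w = w := by
  classical
  obtain ⟨v, hv⟩ := exists_ne (0 : V)
  let e : ℕ → V := fun i => (⇑T)^[i] v
  have he : ∀ i, T (e i) = e (i + 1) := fun i => (Function.iterate_succ_apply' _ _ _).symm
  have hex : ∃ m, ¬ LinearIndependent k (fun i : Fin m => e i) := ⟨Module.finrank k V + 1, fun h => by
    simpa using h.fintype_card_le_finrank⟩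
  obtain ⟨m, hm, hmin⟩ : ∃ m, ¬ LinearIndependent k (fun i : Fin m => e i) ∧
      ∀ i, i < m → LinearIndependent k (fun j : Fin i => e j) :=
    ⟨Nat.find hex, Nat.find_spec hex, fun i hi => not_not.1 (Nat.find_min hex hi)⟩
  obtain ⟨n, rfl⟩ : ∃ n, m = n + 2 := by
    rcases m with _ | _ | n
    · exact absurd linearIndependent_empty_type hm
    · exact absurd (LinearIndependent.of_subsingleton (0 : Fin 1) (by simpa [e] using hv)) hm
    · exact ⟨n, rfl⟩
  have hli := hmin (n + 1) (by omega)
  have hmem : e (n + 1) ∈ Submodule.span k (Set.range fun i : Fin (n + 1) => e i) := by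
    by_contra h
    refine hm (linearIndependent_finSucc'.2 ⟨?_, ?_⟩)
    · convert hli using 2 <;> rfl
    · rw [show Fin.init (fun i : Fin (n + 1 + 1) => e i) = fun i : Fin (n + 1) => e i from funext fun i => rfl]
      simpa using h
  obtain ⟨b, hb⟩ := (Submodule.mem_span_range_iff_exists_fun k).1 hmem
  have hb0 : b ≠ 0 := by
    rintro rfl
    simp only [Pi.zero_apply, zero_smul, Finset.sum_const_zero] at hb
    have h := (linearIndependent_map T h1 hli).ne_zero (Fin.last n)
    rw [Fin.val_last, he] at h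
    exact h hb.symm
  obtain ⟨x, hx0, hx⟩ := h2 n b hb0
  let bb : ℕ → k := fun i => if h : i < n + 1 then b ⟨i, h⟩ else 0
  let xs : ℕ → k := fun i => Nat.rec (σ x * bb 0) (fun i z => σ z + σ x * bb (i + 1)) i
  have hxs : ∀ i, xs i = ∑ t ∈ Finset.range (i + 1), (⇑σ)^[t + 1] x * (⇑σ)^[t] (bb (i - t)) := by
    intro i
    induction i with
    | zero => simp [xs]
    | succ i ih =>
      show σ (xs i) + σ x * bb (i + 1) = _
      rw [ih, map_sum, Finset.sum_range_succ' _ (i + 1)]
      congr 1
      refine Finset.sum_congr rfl fun t _ => ?_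
      rw [map_mul, ← Function.iterate_succ_apply' σ, ← Function.iterate_succ_apply' σ, Nat.succ_sub_succ]
  have hxn : xs n = x := by
    conv_rhs => rw [hx]
    rw [hxs, ← Fin.sum_univ_eq_sum_range (fun t => (⇑σ)^[t + 1] x * (⇑σ)^[t] (bb (n - t)))]
    refine Finset.sum_congr rfl fun t _ => ?_
    simp only [bb, dif_pos (show n - (t : ℕ) < n + 1 by omega)]
    congr 3
    ext
    simp [Fin.val_rev]
  refine ⟨∑ i : Fin (n + 1), xs i • e i, fun h0 => hx0 ?_, ?_⟩
  · rw [← hxn]
    simpa using Fintype.linearIndependent_iff.1 hli (fun i => xs i) h0 (Fin.last n)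
  · have hb' : ∑ i ∈ Finset.range (n + 1), bb i • e i = e (n + 1) := by
      rw [← hb, ← Fin.sum_univ_eq_sum_range (fun i => bb i • e i)]
      simp [bb, Fin.is_le]
    rw [Fin.sum_univ_eq_sum_range (fun i => xs i • e i), map_sum]
    simp only [map_smulₛₗ, he]
    rw [Finset.sum_range_succ, hxn, ← hb', Finset.smul_sum, Finset.sum_range_succ',
      Finset.sum_range_succ' (fun i => xs i • e i), ← add_assoc, ← Finset.sum_add_distrib, smul_smul]
    congr 1
    refine Finset.sum_congr rfl fun i _ => ?_
    rw [smul_smul, ← add_smul]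

end

theorem span_fixed_eq_top_aux (h2 : TwistRoots σ) (h3 : SubSurj σ) (d : ℕ) :
    ∀ (V : Type v) [AddCommGroup V] [Module k V] [FiniteDimensional k V] (T : V →ₛₗ[σ] V),
      Module.finrank k V = d → Submodule.span k (Set.range ⇑T) = ⊤ →
        Submodule.span k {v | T v = v} = ⊤ := by
  induction d using Nat.strong_induction_on with
  | _ d ih =>
    intro V _ _ _ T hd h1
    rcases subsingleton_or_nontrivial V with hs | hn
    · exact Subsingleton.elim _ _
    obtain ⟨w, hw0, hw⟩ := exists_fixed_ne_zero T h1 h2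
    let W := Submodule.span k {w}
    have hWT : W ≤ W.comap T := by
      rw [Submodule.span_le, Set.singleton_subset_iff, SetLike.mem_coe, Submodule.mem_comap, hw]
      exact Submodule.mem_span_singleton_self w
    let T' : (V ⧸ W) →ₛₗ[σ] (V ⧸ W) := Submodule.mapQ W W T hWT
    have hT' : ∀ v, T' (Submodule.Quotient.mk v) = Submodule.Quotient.mk (T v) := fun v => rfl
    have h1' : Submodule.span k (Set.range ⇑T') = ⊤ := by
      rw [eq_top_iff, ← W.range_mkQ, LinearMap.range_eq_map, ← h1, Submodule.map_span]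
      refine Submodule.span_mono ?_
      rintro _ ⟨_, ⟨v, rfl⟩, rfl⟩
      exact ⟨Submodule.Quotient.mk v, rfl⟩
    have hlt : Module.finrank k (V ⧸ W) < d := by
      have h := W.finrank_quotient_add_finrank
      have h1 : Module.finrank k W = 1 := finrank_span_singleton hw0
      omega
    have hq := ih _ hlt (V ⧸ W) T' rfl h1'
    let S := Submodule.span k {v : V | T v = v}
    show S = ⊤
    have hwS : w ∈ S := Submodule.subset_span hw
    have hmk : ∀ v, T' (Submodule.Quotient.mk v) = Submodule.Quotient.mk v →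
        (Submodule.Quotient.mk v : V ⧸ W) ∈ S.map W.mkQ := by
      intro v hv
      rw [hT', Submodule.Quotient.eq, Submodule.mem_span_singleton] at hv
      obtain ⟨c, hc⟩ := hv
      obtain ⟨y, hy⟩ := h3 c
      refine ⟨v + y • w, Submodule.subset_span ?_, ?_⟩
      · show T (v + y • w) = v + y • w
        rw [map_add, map_smulₛₗ, hw, ← sub_eq_zero]
        calc T v + σ y • w - (v + y • w) = (T v - v) + (σ y - y) • w := by rw [sub_smul]; abel
          _ = 0 := by rw [← hc, ← add_smul, add_comm, hy, zero_smul]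
      · show Submodule.Quotient.mk (v + y • w) = _
        rw [Submodule.Quotient.eq, add_sub_cancel_left]
        exact Submodule.smul_mem _ _ (Submodule.mem_span_singleton_self w)
    have hle : (⊤ : Submodule k (V ⧸ W)) ≤ S.map W.mkQ := by
      rw [← hq, Submodule.span_le]
      intro q hq'
      obtain ⟨v, rfl⟩ := Submodule.Quotient.mk_surjective _ q
      exact hmk v hq'
    rw [eq_top_iff]
    intro v _
    obtain ⟨s, hs, hsv⟩ := hle (Submodule.mem_top : W.mkQ v ∈ ⊤)
    rw [Submodule.mkQ_apply, Submodule.mkQ_apply, Submodule.Quotient.eq, Submodule.mem_span_singleton] at hsv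
    obtain ⟨c, hc⟩ := hsv
    have : v = s - c • w := by rw [hc]; abel
    rw [this]
    exact sub_mem hs (S.smul_mem c hwS)

variable {V : Type v} [AddCommGroup V] [Module k V] [FiniteDimensional k V]

/-- Lang's theorem: a semilinear map with spanning image has a spanning set of fixed vectors. -/
theorem span_fixed_eq_top (h2 : TwistRoots σ) (h3 : SubSurj σ) (T : V →ₛₗ[σ] V)
    (h1 : Submodule.span k (Set.range ⇑T) = ⊤) : Submodule.span k {v | T v = v} = ⊤ :=
  span_fixed_eq_top_aux h2 h3 _ V T rfl h1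

theorem exists_basis_fixed (h2 : TwistRoots σ) (h3 : SubSurj σ) (T : V →ₛₗ[σ] V)
    (h1 : Submodule.span k (Set.range ⇑T) = ⊤) :
    ∃ b : Basis (Fin (Module.finrank k V)) k V, ∀ i, T (b i) = b i := by
  classical
  obtain ⟨s, hsub, hspan, hli⟩ := exists_linearIndependent k {v : V | T v = v}
  rw [span_fixed_eq_top h2 h3 T h1] at hspan
  let b := Basis.mk hli (by rw [Subtype.range_coe_subtype, Set.setOf_mem_eq, hspan])
  haveI : Fintype s := FiniteDimensional.fintypeBasisIndex b
  refine ⟨b.reindex ((Fintype.equivFin s).trans (finCongr (Module.finrank_eq_card_basis b).symm)),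
    fun i => ?_⟩
  rw [Basis.reindex_apply, Basis.mk_apply]
  exact hsub (Subtype.prop _)

theorem sub_surjective (h2 : TwistRoots σ) (h3 : SubSurj σ) (T : V →ₛₗ[σ] V)
    (h1 : Submodule.span k (Set.range ⇑T) = ⊤) : Function.Surjective (fun v : V => v - T v) := by
  obtain ⟨b, hb⟩ := exists_basis_fixed h2 h3 T h1
  intro v
  choose y hy using fun i => h3 (b.repr v i)
  refine ⟨∑ i, y i • b i, ?_⟩
  conv_rhs => rw [← b.sum_repr v]
  simp only [map_sum, map_smulₛₗ, hb, ← Finset.sum_sub_distrib, ← sub_smul]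
  refine Finset.sum_congr rfl fun i _ => ?_
  rw [show y i - σ (y i) = b.repr v i by linear_combination -hy i]

omit [FiniteDimensional k V] in
/-- The coordinates of a fixed vector in a basis of fixed vectors are fixed. -/
theorem repr_fixed {ι : Type*} [Fintype ι] (T : V →ₛₗ[σ] V) (b : Basis ι k V) (hb : ∀ i, T (b i) = b i)
    {v : V} : T v = v ↔ ∀ i, σ (b.repr v i) = b.repr v i := by
  have h : T v = ∑ i, σ (b.repr v i) • b i := by
    conv_lhs => rw [← b.sum_repr v, map_sum]
    exact Finset.sum_congr rfl fun i _ => by rw [map_smulₛₗ, hb]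
  constructor
  · intro hv i
    have := congrArg (fun z => b.repr z i) h
    simp only [hv, b.repr_sum_self] at this
    exact this.symm
  · intro hv
    simp only [h, hv, b.sum_repr]

section Stable

variable (T : V →ₛₗ[σ] V)

/-- The stable part: the intersection of the spans of the images of the iterates. -/
def stable : Submodule k V := ⨅ n : ℕ, Submodule.span k (Set.range (⇑T)^[n])

omit [FiniteDimensional k V] in
theorem span_iterate_anti : Antitone fun n : ℕ => Submodule.span k (Set.range (⇑T)^[n]) :=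
  antitone_nat_of_succ_le fun n => Submodule.span_mono (by
    rintro _ ⟨v, rfl⟩
    exact ⟨T v, (Function.iterate_succ_apply _ _ _).symm⟩)

theorem exists_stable_eq : ∃ N, ∀ n, N ≤ n → Submodule.span k (Set.range (⇑T)^[n]) = stable T := by
  obtain ⟨N, hN⟩ := IsArtinian.monotone_stabilizes (R := k) (M := V)
    ⟨fun n => OrderDual.toDual (Submodule.span k (Set.range (⇑T)^[n])), fun a b h => span_iterate_anti T h⟩
  have hN' : ∀ n, N ≤ n → Submodule.span k (Set.range (⇑T)^[n]) = Submodule.span k (Set.range (⇑T)^[N]) :=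
    fun n hn => (congrArg OrderDual.ofDual (hN n hn)).symm
  refine ⟨N, fun n hn => le_antisymm (le_iInf fun j => ?_) (iInf_le _ n)⟩
  calc Submodule.span k (Set.range (⇑T)^[n]) = Submodule.span k (Set.range (⇑T)^[max j N]) :=
        (hN' n hn).trans (hN' _ (le_max_right _ _)).symm
    _ ≤ _ := span_iterate_anti T (le_max_left _ _)

omit [FiniteDimensional k V] in
theorem map_mem_span_iterate_succ {n : ℕ} {v : V} (hv : v ∈ Submodule.span k (Set.range (⇑T)^[n])) :
    T v ∈ Submodule.span k (Set.range (⇑T)^[n + 1]) := by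
  induction hv using Submodule.span_induction with
  | mem x hx =>
    obtain ⟨y, rfl⟩ := hx
    exact Submodule.subset_span ⟨y, Function.iterate_succ_apply' _ _ _⟩
  | zero => simp
  | add x y _ _ hx hy => rw [map_add]; exact add_mem hx hy
  | smul a x _ hx => rw [map_smulₛₗ]; exact Submodule.smul_mem _ _ hx

theorem mapsTo_stable : ∀ v ∈ stable T, T v ∈ stable T := by
  obtain ⟨N, hN⟩ := exists_stable_eq T
  intro v hv
  rw [← hN (N + 1) N.le_succ]
  exact map_mem_span_iterate_succ T (by rwa [hN N le_rfl])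

omit [FiniteDimensional k V] in
theorem fixed_mem_stable {v : V} (hv : T v = v) : v ∈ stable T :=
  Submodule.mem_iInf _ |>.2 fun n => Submodule.subset_span ⟨v, Function.iterate_fixed hv n⟩

/-- The restriction to the stable part. -/
noncomputable def restrictStable : stable T →ₛₗ[σ] stable T where
  toFun v := ⟨T v.1, mapsTo_stable T v.1 v.2⟩
  map_add' v w := Subtype.ext (by simp)
  map_smul' c v := Subtype.ext (by simp [map_smulₛₗ])

@[simp] theorem coe_restrictStable (v : stable T) : (restrictStable T v : V) = T v := rfl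

theorem span_range_restrictStable : Submodule.span k (Set.range ⇑(restrictStable T)) = ⊤ := by
  obtain ⟨N, hN⟩ := exists_stable_eq T
  apply Submodule.map_injective_of_injective (stable T).injective_subtype
  rw [Submodule.map_span, Submodule.map_top, Submodule.range_subtype]
  refine le_antisymm ?_ ?_
  · rw [Submodule.span_le]
    rintro _ ⟨_, ⟨v, rfl⟩, rfl⟩
    exact (restrictStable T v).2
  · conv_lhs => rw [← hN (N + 1) N.le_succ]
    rw [Submodule.span_le]
    rintro _ ⟨v, rfl⟩
    rw [Function.iterate_succ_apply']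
    exact Submodule.subset_span ⟨restrictStable T ⟨(⇑T)^[N] v, hN N le_rfl ▸ Submodule.subset_span ⟨v, rfl⟩⟩,
      ⟨_, rfl⟩, rfl⟩

theorem exists_basis_stable (h2 : TwistRoots σ) (h3 : SubSurj σ) :
    ∃ b : Basis (Fin (Module.finrank k (stable T))) k (stable T), ∀ i, T (b i : V) = (b i : V) := by
  obtain ⟨b, hb⟩ := exists_basis_fixed h2 h3 (restrictStable T) (span_range_restrictStable T)
  exact ⟨b, fun i => congrArg Subtype.val (hb i)⟩

/-- `v ↦ v - T v` is surjective, with no hypothesis on the image. -/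
theorem sub_surjective' (h2 : TwistRoots σ) (h3 : SubSurj σ) :
    Function.Surjective (fun v : V => v - T v) := by
  obtain ⟨N, hN⟩ := exists_stable_eq T
  intro v
  have hmem : (⇑T)^[N] v ∈ stable T := hN N le_rfl ▸ Submodule.subset_span ⟨v, rfl⟩
  obtain ⟨u, hu⟩ := sub_surjective h2 h3 (restrictStable T) (span_range_restrictStable T) ⟨_, hmem⟩
  have hu' : (u : V) - T u = (⇑T)^[N] v := congrArg Subtype.val hu
  refine ⟨∑ i ∈ Finset.range N, (⇑T)^[i] v + u, ?_⟩
  have h : ∑ i ∈ Finset.range N, (⇑T)^[i] v - T (∑ i ∈ Finset.range N, (⇑T)^[i] v) = v - (⇑T)^[N] v := by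
    rw [map_sum, ← Finset.sum_sub_distrib]
    simp only [← Function.iterate_succ_apply' T]
    rw [Finset.sum_range_sub' (fun i => (⇑T)^[i] v)]
    rfl
  show _ - T _ = v
  rw [map_add, add_sub_add_comm, h, hu', sub_add_cancel]

end Stable

section Frobenius

open Polynomial

variable (p : ℕ) [hp : Fact p.Prime] [CharP k p]

theorem iterate_powq {q : ℕ} {τ : k →+* k} (hτ : ∀ x, τ x = x ^ q) (n : ℕ) (x : k) :
    (⇑τ)^[n] x = x ^ q ^ n := by
  induction n with
  | zero => simp
  | succ n ih => rw [Function.iterate_succ_apply', ih, hτ, ← pow_mul, ← pow_succ]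

variable [IsSepClosed k]

include hp in
theorem twistRoots_powq {r : ℕ} (hr : 0 < r) (hσ : ∀ x, σ x = x ^ p ^ r) : TwistRoots σ := by
  classical
  intro n b hb
  set q := p ^ r with hq
  have hq1 : 1 < q := Nat.one_lt_pow hr.ne' hp.out.one_lt
  let β : Fin (n + 1) → k := fun i => (⇑σ)^[i.val] (b (Fin.rev i))
  obtain ⟨j, hj⟩ : ∃ j, β j ≠ 0 := by
    obtain ⟨i, hi⟩ := Function.ne_iff.1 hb
    refine ⟨Fin.rev i, ?_⟩
    simp only [β, Fin.rev_rev, iterate_powq hσ]
    exact pow_ne_zero _ hi
  let Q : k[X] := ∑ i : Fin (n + 1), C (β i) * X ^ (q ^ (i.val + 1) - 1) - 1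
  have hqk : (q : k) = 0 := by rw [hq, Nat.cast_pow, CharP.cast_eq_zero, zero_pow hr.ne']
  have hsep : Q.Separable := by
    have hder : Q + X * derivative Q = C (-1) := by
      simp only [Q, derivative_sub, derivative_sum, derivative_C_mul_X_pow, derivative_one, sub_zero,
        Finset.mul_sum]
      rw [sub_add_eq_add_sub, ← Finset.sum_add_distrib, Finset.sum_eq_zero, zero_sub, map_neg, map_one]
      intro i _
      obtain ⟨e, he⟩ : ∃ e, q ^ (i.val + 1) = e + 2 :=
        ⟨q ^ (i.val + 1) - 2, by have := Nat.one_lt_pow (n := i.val + 1) (by omega) hq1; omega⟩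
      have hc : ((e + 1 : ℕ) : k) = -1 := by
        have : ((e + 2 : ℕ) : k) = 0 := by rw [← he, Nat.cast_pow, hqk, zero_pow (by omega)]
        push_cast at this ⊢
        linear_combination this
      rw [he, show e + 2 - 1 = e + 1 by omega, Nat.add_sub_cancel, hc]
      simp only [map_mul, map_neg, map_one]
      ring
    rw [separable_def']
    refine ⟨C (-1), C (-1) * X, ?_⟩
    rw [mul_assoc, ← mul_add, hder, ← map_mul]
    norm_num
  have hdeg : Q.degree ≠ 0 := by
    intro h
    have h1 := congrArg (fun P : k[X] => P.coeff (q ^ (j.val + 1) - 1)) (eq_C_of_degree_eq_zero h)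
    have hne : q ^ (j.val + 1) - 1 ≠ 0 := by
      have := Nat.one_lt_pow (n := j.val + 1) (by omega) hq1
      omega
    simp only [coeff_C, if_neg hne] at h1
    simp only [Q, coeff_sub, coeff_one, if_neg hne, finsetSum_coeff, coeff_C_mul_X_pow, sub_zero] at h1
    rw [Finset.sum_eq_single j] at h1
    · exact hj (by simpa using h1)
    · intro i _ hij
      refine if_neg fun e => hij (Fin.ext ?_)
      have e' : q ^ (j.val + 1) = q ^ (i.val + 1) := by
        have := Nat.one_le_pow (i.val + 1) q (by omega)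
        have := Nat.one_le_pow (j.val + 1) q (by omega)
        omega
      have := Nat.pow_right_injective hq1 e'
      omega
    · simp
  obtain ⟨x, hx⟩ := IsSepClosed.exists_root Q hdeg hsep
  simp only [IsRoot, Q, eval_sub, eval_finsetSum, eval_mul, eval_C, eval_pow, eval_X, eval_one] at hx
  refine ⟨x, ?_, ?_⟩
  · rintro rfl
    rw [Finset.sum_eq_zero] at hx
    · norm_num at hx
    · intro i _
      rw [zero_pow, mul_zero]
      have := Nat.one_lt_pow (n := i.val + 1) (by omega) hq1
      omega
  · have h2 := congrArg (x * ·) (sub_eq_zero.1 hx)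
    simp only [Finset.mul_sum, mul_one] at h2
    refine h2.symm.trans (Finset.sum_congr rfl fun i _ => ?_)
    rw [iterate_powq hσ, mul_left_comm, ← pow_succ', Nat.sub_add_cancel (Nat.one_le_pow _ _ (by omega)),
      mul_comm]

include hp in
theorem subSurj_powq {r : ℕ} (hr : 0 < r) (hσ : ∀ x, σ x = x ^ p ^ r) : SubSurj σ := by
  intro c
  have hq1 : 1 < p ^ r := Nat.one_lt_pow hr.ne' hp.out.one_lt
  have hnd : (X ^ p ^ r - X + C c : k[X]).natDegree = p ^ r := by
    rw [sub_add, natDegree_sub_eq_left_of_natDegree_lt] <;>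
      simp only [natDegree_X_pow, natDegree_X_sub_C, hq1]
  obtain ⟨y, hy⟩ := IsSepClosed.exists_root (X ^ p ^ r - X + C c : k[X])
    (fun h => by rw [natDegree_eq_zero_iff_degree_le_zero.2 h.le] at hnd; omega)
    (by
      rw [separable_def']
      refine ⟨0, -1, ?_⟩
      simp [CharP.cast_eq_zero, zero_pow hr.ne', derivative_X_pow])
  exact ⟨y, by simpa [hσ] using hy⟩

end Frobenius

section InvFrobenius

open Polynomial

variable (p : ℕ) [hp : Fact p.Prime] [CharP k p] [IsAlgClosed k]

omit [CharP k p] hp in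
theorem exists_ne_zero_root {P : k[X]} (h0 : P.coeff 0 = 0) {a b : ℕ} (hab : a ≠ b)
    (ha : P.coeff a ≠ 0) (hb : P.coeff b ≠ 0) : ∃ x, x ≠ 0 ∧ P.IsRoot x := by
  have hP : P ≠ 0 := fun h => ha (by rw [h, coeff_zero])
  obtain ⟨Q, hQ, hnd⟩ := exists_eq_pow_rootMultiplicity_mul_and_not_dvd P hP 0
  rw [map_zero, sub_zero] at hQ hnd
  set m := P.rootMultiplicity 0
  by_cases hdeg : Q.degree = 0
  · exfalso
    have h := eq_C_of_degree_eq_zero hdeg
    rw [h, mul_comm] at hQ
    rw [hQ, coeff_C_mul_X_pow] at ha hb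
    simp only [ne_eq, ite_eq_right_iff, Classical.not_imp] at ha hb
    exact hab (ha.1.trans hb.1.symm)
  · obtain ⟨x, hx⟩ := IsAlgClosed.exists_root Q hdeg
    refine ⟨x, ?_, ?_⟩
    · rintro rfl
      exact hnd (X_dvd_iff.2 (by rw [coeff_zero_eq_eval_zero]; exact hx))
    · rw [hQ, IsRoot, eval_mul, hx.eq_zero, mul_zero]

theorem invFrob_pow (x : k) : (frobeniusEquiv k p).symm (x ^ p) = x := by
  rw [← frobeniusEquiv_def, RingEquiv.symm_apply_apply]

theorem invFrob_iterate (n m : ℕ) (x : k) :
    (⇑(frobeniusEquiv k p).symm)^[n] (x ^ p ^ (n + m)) = x ^ p ^ m := by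
  induction n with
  | zero => simp
  | succ n ih =>
    rw [Function.iterate_succ_apply, show n + 1 + m = n + m + 1 by omega, pow_succ, pow_mul,
      invFrob_pow, ih]

theorem twistRoots_invFrob : TwistRoots ((frobeniusEquiv k p).symm.toRingHom) := by
  classical
  intro n b hb
  set σ' : k →+* k := (frobeniusEquiv k p).symm.toRingHom
  have hσ' : ⇑σ' = ⇑(frobeniusEquiv k p).symm := rfl
  let β : Fin (n + 1) → k := fun i => (⇑σ')^[i.val] (b (Fin.rev i))
  obtain ⟨j, hj⟩ : ∃ j, β j ≠ 0 := by
    obtain ⟨i, hi⟩ := Function.ne_iff.1 hb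
    refine ⟨Fin.rev i, ?_⟩
    simp only [β, Fin.rev_rev]
    exact fun h => hi ((σ'.injective.iterate _) (h.trans (iterate_map_zero σ' _).symm))
  let P : k[X] := X ^ p ^ (n + 1) - ∑ i : Fin (n + 1), C (β i) * X ^ p ^ (n - i.val)
  have hlt : ∀ i : Fin (n + 1), p ^ (n - i.val) < p ^ (n + 1) := fun i =>
    Nat.pow_lt_pow_right hp.out.one_lt (by omega)
  obtain ⟨z, hz0, hz⟩ := exists_ne_zero_root (P := P) (a := p ^ (n + 1)) (b := p ^ (n - j.val))
    (by
      simp only [P, coeff_sub, coeff_X_pow, finsetSum_coeff, coeff_C_mul_X_pow]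
      rw [if_neg (Nat.pow_pos hp.out.pos).ne, Finset.sum_eq_zero (fun i _ => if_neg (Nat.pow_pos hp.out.pos).ne)]
      simp)
    (hlt j).ne'
    (by
      simp only [P, coeff_sub, coeff_X_pow_self, finsetSum_coeff, coeff_C_mul_X_pow]
      rw [Finset.sum_eq_zero (fun i _ => if_neg (hlt i).ne')]
      simp)
    (by
      simp only [P, coeff_sub, coeff_X_pow, finsetSum_coeff, coeff_C_mul_X_pow]
      rw [if_neg (hlt j).ne, Finset.sum_eq_single j]
      · simpa using hj
      · intro i _ hij
        refine if_neg fun e => hij (Fin.ext ?_)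
        have := Nat.pow_right_injective hp.out.two_le e
        omega
      · simp)
  refine ⟨z ^ p ^ (n + 1), pow_ne_zero _ hz0, ?_⟩
  simp only [IsRoot, P, eval_sub, eval_pow, eval_X, eval_finsetSum, eval_mul, eval_C, sub_eq_zero] at hz
  refine hz.trans (Finset.sum_congr rfl fun i _ => ?_)
  have e : z ^ p ^ (n + 1) = z ^ p ^ (i.val + 1 + (n - i.val)) := by
    rw [show i.val + 1 + (n - i.val) = n + 1 by omega]
  rw [e, hσ', invFrob_iterate]
  exact mul_comm _ _

theorem subSurj_invFrob : SubSurj ((frobeniusEquiv k p).symm.toRingHom) := by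
  intro c
  obtain ⟨z, hz⟩ := IsAlgClosed.exists_root (X ^ p - X - C c : k[X]) (by
    intro h
    have hnd : (X ^ p - X - C c : k[X]).natDegree = p := by
      rw [sub_sub, natDegree_sub_eq_left_of_natDegree_lt] <;>
        simp only [natDegree_X_pow, natDegree_X_add_C, hp.out.one_lt]
    rw [natDegree_eq_of_degree_eq_some h] at hnd
    exact hp.out.ne_zero hnd.symm)
  simp only [IsRoot, eval_sub, eval_pow, eval_X, eval_C] at hz
  refine ⟨z ^ p, ?_⟩
  show (frobeniusEquiv k p).symm (z ^ p) - z ^ p + c = 0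
  rw [invFrob_pow]
  linear_combination -hz

end InvFrobenius

end Groth.Agent.SigmaLang
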