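import Groth.Agent.SigmaLang.Basic
import Mathlib.RingTheory.Ideal.Quotient.Operations
import Mathlib.Algebra.Module.Torsion.Basic
import Mathlib.RingTheory.Finiteness.Basic

/-!
# Fitting decomposition, and semilinear maps over nilpotent thickenings of a field
-/

set_option autoImplicit false
universe u v w

namespace Groth.Agent.SigmaLang

open Module
open scoped Pointwise

section Fitting

variable {k : Type u} [Field k] {σ : k →+* k}
  {V : Type v} [AddCommGroup V] [Module k V] [FiniteDimensional k V]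

theorem eq_zero_of_map_eq_zero (T : V →ₛₗ[σ] V) (h1 : Submodule.span k (Set.range ⇑T) = ⊤)
    {v : V} (hv : T v = 0) : v = 0 := by
  by_contra hne
  have he : LinearIndependent k (fun _ : Fin 1 => v) := LinearIndependent.of_subsingleton (0 : Fin 1) hne
  exact (linearIndependent_map T h1 he).ne_zero 0 hv

theorem coe_iterate_restrictStable (T : V →ₛₗ[σ] V) (n : ℕ) (v : stable T) :
    (((⇑(restrictStable T))^[n] v : stable T) : V) = (⇑T)^[n] v := by
  induction n with
  | zero => rfl
  | succ n ih => rw [Function.iterate_succ_apply', Function.iterate_succ_apply', coe_restrictStable, ih]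

/-- A vector in the stable part killed by an iterate is zero. -/
theorem eq_zero_of_iterate_eq_zero (T : V →ₛₗ[σ] V) {v : V} (hv : v ∈ stable T) {n : ℕ}
    (hn : (⇑T)^[n] v = 0) : v = 0 := by
  induction n generalizing v with
  | zero => simpa using hn
  | succ n ih =>
    rw [Function.iterate_succ_apply] at hn
    have h0 : T v = 0 := ih (mapsTo_stable T v hv) hn
    exact congrArg Subtype.val (eq_zero_of_map_eq_zero (restrictStable T)
      (span_range_restrictStable T) (v := ⟨v, hv⟩) (Subtype.ext h0))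

omit [FiniteDimensional k V] in
theorem iterate_map_smul (T : V →ₛₗ[σ] V) (n : ℕ) (c : k) (v : V) :
    (⇑T)^[n] (c • v) = (⇑σ)^[n] c • (⇑T)^[n] v := by
  induction n with
  | zero => rfl
  | succ n ih =>
    rw [Function.iterate_succ_apply', ih, map_smulₛₗ, Function.iterate_succ_apply',
      Function.iterate_succ_apply']

/-- For surjective `σ` the image of an iterate is a subspace. -/
theorem span_range_iterate (T : V →ₛₗ[σ] V) (hσ : Function.Surjective σ) (n : ℕ) :
    (Submodule.span k (Set.range (⇑T)^[n]) : Set V) = Set.range (⇑T)^[n] := by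
  refine Set.Subset.antisymm (fun v hv => ?_) Submodule.subset_span
  induction hv using Submodule.span_induction with
  | mem x hx => exact hx
  | zero => exact ⟨0, iterate_map_zero T n⟩
  | add x y _ _ hx hy =>
    obtain ⟨a, rfl⟩ := hx
    obtain ⟨b, rfl⟩ := hy
    exact ⟨a + b, iterate_map_add T n a b⟩
  | smul c x _ hx =>
    obtain ⟨a, rfl⟩ := hx
    obtain ⟨d, rfl⟩ := (hσ.iterate n) c
    exact ⟨d • a, iterate_map_smul T n d a⟩

theorem fitting (T : V →ₛₗ[σ] V) (hσ : Function.Surjective σ) :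
    (∃ W : Submodule k V, (W : Set V) = {v : V | ∃ n : ℕ, (⇑T)^[n] v = 0} ∧
      (∃ N : ℕ, ∀ v ∈ W, (⇑T)^[N] v = 0) ∧ IsCompl W (stable T)) ∧
    Set.BijOn (⇑T) (stable T) (stable T) := by
  obtain ⟨N, hN⟩ := exists_stable_eq T
  have hrange : ∀ n, N ≤ n → (stable T : Set V) = Set.range (⇑T)^[n] := fun n hn => by
    rw [← hN n hn]; exact span_range_iterate T hσ n
  have hkill : ∀ v, (∃ n, (⇑T)^[n] v = 0) → (⇑T)^[N] v = 0 := by
    rintro v ⟨n, hn⟩
    have hmem : (⇑T)^[N] v ∈ (stable T : Set V) := (hrange N le_rfl).ge ⟨v, rfl⟩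
    refine eq_zero_of_iterate_eq_zero T hmem (n := n) ?_
    rw [← Function.iterate_add_apply, add_comm, Function.iterate_add_apply, hn, iterate_map_zero]
  let W : Submodule k V :=
    { carrier := {v | (⇑T)^[N] v = 0}
      zero_mem' := iterate_map_zero T N
      add_mem' := fun {a b} (ha : (⇑T)^[N] a = 0) (hb : (⇑T)^[N] b = 0) => by
        show (⇑T)^[N] (a + b) = 0
        rw [iterate_map_add, ha, hb, add_zero]
      smul_mem' := fun c x (hx : (⇑T)^[N] x = 0) => by
        show (⇑T)^[N] (c • x) = 0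
        rw [iterate_map_smul, hx, smul_zero] }
  refine ⟨⟨W, Set.ext fun v => ⟨fun h => ⟨N, h⟩, hkill v⟩, ⟨N, fun v h => h⟩, ⟨?_, ?_⟩⟩, ?_, ?_, ?_⟩
  · rw [Submodule.disjoint_def]
    exact fun v hv hv' => eq_zero_of_iterate_eq_zero T hv' hv
  · rw [codisjoint_iff, eq_top_iff]
    intro v _
    obtain ⟨y, hy⟩ : (⇑T)^[N] v ∈ Set.range (⇑T)^[N + N] := by
      rw [← hrange _ (Nat.le_add_right N N), hrange N le_rfl]
      exact ⟨v, rfl⟩
    refine Submodule.mem_sup.2 ⟨v - (⇑T)^[N] y, ?_, (⇑T)^[N] y, (hrange N le_rfl).ge ⟨y, rfl⟩, sub_add_cancel _ _⟩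
    show (⇑T)^[N] (v - (⇑T)^[N] y) = 0
    rw [iterate_map_sub, ← Function.iterate_add_apply, hy, sub_self]
  · exact fun v hv => mapsTo_stable T v hv
  · intro a ha b hb hab
    exact sub_eq_zero.1 (eq_zero_of_iterate_eq_zero T (sub_mem ha hb) (n := 1) (by simp [hab]))
  · intro w hw
    obtain ⟨y, rfl⟩ := (hrange (N + 1) N.le_succ).le hw
    exact ⟨(⇑T)^[N] y, (hrange N le_rfl).ge ⟨y, rfl⟩, (Function.iterate_succ_apply' _ _ _).symm⟩

theorem exists_fixed_mem_span_orbit (T : V →ₛₗ[σ] V) (h2 : TwistRoots σ) (e : V)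
    (he : ∀ m : ℕ, (⇑T)^[m] e ≠ 0) :
    ∃ v ∈ Submodule.span k (Set.range (fun m : ℕ => (⇑T)^[m] e)), v ≠ 0 ∧ T v = v := by
  set U := Submodule.span k (Set.range (fun m : ℕ => (⇑T)^[m] e))
  have hU : ∀ v ∈ U, T v ∈ U := fun v hv => by
    induction hv using Submodule.span_induction with
    | mem x hx =>
      obtain ⟨m, rfl⟩ := hx
      exact Submodule.subset_span ⟨m + 1, Function.iterate_succ_apply' _ _ _⟩
    | zero => simp
    | add x y _ _ hx hy => rw [map_add]; exact add_mem hx hy
    | smul a x _ hx => rw [map_smulₛₗ]; exact Submodule.smul_mem _ _ hx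
  let TU : U →ₛₗ[σ] U :=
    { toFun := fun v => ⟨T v.1, hU v.1 v.2⟩
      map_add' := fun v w => Subtype.ext (map_add T v.1 w.1)
      map_smul' := fun c v => Subtype.ext (map_smulₛₗ T c v.1) }
  have hit : ∀ n (v : U), (((⇑TU)^[n] v : U) : V) = (⇑T)^[n] v := by
    intro n v
    induction n with
    | zero => rfl
    | succ n ih =>
      rw [Function.iterate_succ_apply', Function.iterate_succ_apply', ← ih]
      rfl
  obtain ⟨N, hN⟩ := exists_stable_eq TU
  let e' : U := ⟨e, Submodule.subset_span ⟨0, rfl⟩⟩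
  haveI : Nontrivial (stable TU) := by
    refine ⟨⟨⟨(⇑TU)^[N] e', hN N le_rfl ▸ Submodule.subset_span ⟨e', rfl⟩⟩, 0, fun h => he N ?_⟩⟩
    have h' := congrArg (fun z : stable TU => ((z : U) : V)) h
    simp only [hit] at h'
    exact h'
  obtain ⟨w, hw0, hw⟩ := exists_fixed_ne_zero (restrictStable TU) (span_range_restrictStable TU) h2
  refine ⟨((w : U) : V), (w : U).2, fun h => hw0 (Subtype.ext (Subtype.ext h)), ?_⟩
  exact congrArg (fun z : stable TU => ((z : U) : V)) hw

end Fitting

section Thickening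

variable {R : Type u} [CommRing R] {k : Type w} [Field k] (π : R →+* k) (hπ : Function.Surjective π)
  (ϖ : R) (hker : RingHom.ker π = Ideal.span {ϖ}) {σ : R →+* R} {σbar : k →+* k}
  (hσbar : ∀ r : R, σbar (π r) = π (σ r)) (hϖ : σ ϖ = ϖ)
  (h2 : TwistRoots σbar) (h3 : SubSurj σbar)

include hπ hker hσbar in
/-- Data of the reduction of a semilinear map modulo the uniformiser. -/
theorem exists_reduction (M : Type v) [AddCommGroup M] [Module R M] [Module.Finite R M] (T : M →ₛₗ[σ] M) :
    ∃ (V : Type v) (_ : AddCommGroup V) (_ : Module k V) (_ : FiniteDimensional k V)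
      (q : M →+ V) (Tb : V →ₛₗ[σbar] V), Function.Surjective q ∧
      (∀ (r : R) m, q (r • m) = π r • q m) ∧ (∀ m, q m = 0 → ∃ z : M, m = ϖ • z) ∧
      ∀ m, Tb (q m) = q (T m) := by
  set N : Submodule R M := RingHom.ker π • ⊤
  let e : (R ⧸ RingHom.ker π) ≃+* k := RingHom.quotientKerEquivOfSurjective hπ
  letI : Module (R ⧸ RingHom.ker π) (M ⧸ N) :=
    inferInstanceAs (Module (R ⧸ RingHom.ker π) (M ⧸ (RingHom.ker π • ⊤ : Submodule R M)))
  letI : Module k (M ⧸ N) := Module.compHom (M ⧸ N) (e.symm.toRingHom : k →+* R ⧸ RingHom.ker π)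
  have hsmul : ∀ (r : R) (x : M ⧸ N), π r • x = r • x := by
    intro r x
    show e.symm (π r) • x = r • x
    rw [show e.symm (π r) = Ideal.Quotient.mk (RingHom.ker π) r from e.symm_apply_eq.2 rfl]
    rfl
  haveI : FiniteDimensional k (M ⧸ N) := by
    obtain ⟨s, hs⟩ := (Module.Finite.fg_top : (⊤ : Submodule R M).FG)
    classical
    refine ⟨⟨s.image (Submodule.Quotient.mk (p := N)), eq_top_iff.2 ?_⟩⟩
    rintro x -
    obtain ⟨m, rfl⟩ := Submodule.Quotient.mk_surjective _ x
    have hm : m ∈ Submodule.span R (s : Set M) := hs ▸ Submodule.mem_top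
    induction hm using Submodule.span_induction with
    | mem x hx => exact Submodule.subset_span (by simpa using ⟨x, hx, rfl⟩)
    | zero => simp
    | add x y _ _ hx hy => rw [Submodule.Quotient.mk_add]; exact add_mem hx hy
    | smul a x _ hx => rw [Submodule.Quotient.mk_smul, ← hsmul]; exact Submodule.smul_mem _ _ hx
  have hN : N ≤ N.comap T := by
    rw [Submodule.smul_le]
    intro r hr m _
    rw [Submodule.mem_comap, map_smulₛₗ]
    refine Submodule.smul_mem_smul ?_ Submodule.mem_top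
    rw [RingHom.mem_ker, ← hσbar, (RingHom.mem_ker).1 hr, map_zero]
  let T' : (M ⧸ N) →ₛₗ[σ] (M ⧸ N) := Submodule.mapQ N N T hN
  let Tb : (M ⧸ N) →ₛₗ[σbar] (M ⧸ N) :=
    { toFun := T'
      map_add' := map_add T'
      map_smul' := fun c x => by
        obtain ⟨r, rfl⟩ := hπ c
        rw [hsmul, hσbar, hsmul, map_smulₛₗ] }
  refine ⟨M ⧸ N, inferInstance, inferInstance, inferInstance, (N.mkQ).toAddMonoidHom, Tb,
    N.mkQ_surjective, fun r m => (map_smul N.mkQ r m).trans (hsmul r _).symm, fun m hm => ?_, fun m => rfl⟩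
  have hm' : m ∈ N := (Submodule.Quotient.mk_eq_zero _).1 hm
  rw [show N = ϖ • (⊤ : Submodule R M) by
    rw [show N = RingHom.ker π • ⊤ from rfl, hker, Submodule.ideal_span_singleton_smul]] at hm'
  obtain ⟨z, -, hz⟩ := hm'
  exact ⟨z, hz.symm⟩

include hπ hker hσbar hϖ h2 h3 in
theorem sub_surjective_thickening {M : Type v} [AddCommGroup M] [Module R M] [Module.Finite R M]
    (T : M →ₛₗ[σ] M) (n : ℕ) (hn : ∀ m : M, ϖ ^ n • m = 0) :
    Function.Surjective (fun m : M => m - T m) := by
  obtain ⟨V, _, _, _, q, Tb, hq, hqs, hq0, hT⟩ := exists_reduction π hπ ϖ hker hσbar M T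
  have step : ∀ z : M, ∃ y z' : M, z - (y - T y) = ϖ • z' := by
    intro z
    obtain ⟨v, hv⟩ := sub_surjective' Tb h2 h3 (q z)
    obtain ⟨y, rfl⟩ := hq v
    refine ⟨y, hq0 _ ?_⟩
    simp only at hv
    rw [map_sub, map_sub, ← hT, hv, sub_self]
  choose g g' hg using step
  intro m
  refine ⟨∑ t ∈ Finset.range n, ϖ ^ t • g (g'^[t] m), ?_⟩
  have key : ∀ j, m - (∑ t ∈ Finset.range j, ϖ ^ t • g (g'^[t] m) -
      T (∑ t ∈ Finset.range j, ϖ ^ t • g (g'^[t] m))) = ϖ ^ j • g'^[j] m := by
    intro j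
    induction j with
    | zero => simp
    | succ j ih =>
      rw [Finset.sum_range_succ, map_add, Function.iterate_succ_apply' g', pow_succ, mul_smul, ← hg,
        map_smulₛₗ T, map_pow, hϖ, smul_sub, smul_sub, ← ih]
      abel
  exact (sub_eq_zero.1 ((key n).trans (hn _))).symm

include hπ hker hσbar hϖ h2 h3 in
theorem fixed_fg_thickening (hlift : ∀ x : k, σbar x = x → ∃ r : R, σ r = r ∧ π r = x) (n : ℕ) :
    ∀ (M : Type v) [AddCommGroup M] [Module R M] [Module.Finite R M] (T : M →ₛₗ[σ] M),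
      (∀ m : M, ϖ ^ n • m = 0) → ∃ (d : ℕ) (g : Fin d → M), (∀ i, T (g i) = g i) ∧
        ∀ m : M, T m = m → ∃ c : Fin d → R, (∀ i, σ (c i) = c i) ∧ m = ∑ i, c i • g i := by
  induction n with
  | zero =>
    intro M _ _ _ T hn
    exact ⟨0, Fin.elim0, fun i => i.elim0, fun m _ => ⟨Fin.elim0, fun i => i.elim0, by simpa using hn m⟩⟩
  | succ n ih =>
    intro M _ _ _ T hn
    obtain ⟨V, _, _, _, q, Tb, hq, hqs, hq0, hT⟩ := exists_reduction π hπ ϖ hker hσbar M T
    -- the submodule `ϖ M`
    let P : Submodule R M := LinearMap.range (LinearMap.lsmul R M ϖ)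
    haveI : Module.Finite R P := Module.Finite.range _
    have hPT : ∀ x ∈ P, T x ∈ P := by
      rintro _ ⟨x, rfl⟩
      exact ⟨T x, by simp [map_smulₛₗ, hϖ]⟩
    let TP : P →ₛₗ[σ] P :=
      { toFun := fun v => ⟨T v.1, hPT v.1 v.2⟩
        map_add' := fun v w => Subtype.ext (map_add T v.1 w.1)
        map_smul' := fun c v => Subtype.ext (map_smulₛₗ T c v.1) }
    have hnP : ∀ m : P, ϖ ^ n • m = 0 := by
      rintro ⟨_, z, rfl⟩
      refine Subtype.ext ?_
      show ϖ ^ n • ϖ • z = 0
      rw [smul_smul, ← pow_succ, hn]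
    obtain ⟨d, g, hg, hgen⟩ := ih P TP hnP
    have hsurjP := sub_surjective_thickening π hπ ϖ hker hσbar hϖ h2 h3 TP n hnP
    obtain ⟨b, hb⟩ := exists_basis_stable Tb h2 h3
    have hfix : ∀ i, ∃ u : M, T u = u ∧ q u = (b i : V) := by
      intro i
      obtain ⟨m, hm⟩ := hq (b i : V)
      obtain ⟨z, hz⟩ := hq0 (T m - m) (by rw [map_sub, ← hT, hm, hb, sub_self])
      obtain ⟨y, hy⟩ := hsurjP ⟨T m - m, z, hz.symm⟩
      have hy' : (y : M) - T y = T m - m := congrArg Subtype.val hy
      refine ⟨m + y, ?_, ?_⟩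
      · rw [map_add, ← sub_eq_zero]
        calc T m + T y - (m + y) = (T m - m) - ((y : M) - T y) := by abel
          _ = 0 := by rw [hy', sub_self]
      · obtain ⟨z', hz'⟩ := y.2
        rw [map_add, ← hz', LinearMap.lsmul_apply, hqs,
          show π ϖ = 0 from (RingHom.mem_ker).1 (hker ▸ Ideal.mem_span_singleton_self ϖ), zero_smul,
          add_zero, hm]
    choose u hu hu' using hfix
    refine ⟨_ + d, Fin.append u (fun i => (g i : M)), fun i => ?_, fun m hm => ?_⟩
    · induction i using Fin.addCases with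
      | left i => rw [Fin.append_left]; exact hu i
      | right i => rw [Fin.append_right]; exact congrArg Subtype.val (hg i)
    · have hqm : Tb (q m) = q m := by rw [hT, hm]
      let v' : stable Tb := ⟨q m, fixed_mem_stable Tb hqm⟩
      have hco := (repr_fixed (restrictStable Tb) b (fun j => Subtype.ext (hb j)) (v := v')).1 (Subtype.ext hqm)
      choose r hr hr' using fun i => hlift _ (hco i)
      obtain ⟨z, hz⟩ := hq0 (m - ∑ i, r i • u i) (by
        rw [map_sub, map_sum, sub_eq_zero]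
        simp only [hqs, hr', hu']
        have h := congrArg Subtype.val (b.sum_repr v')
        rw [Submodule.coe_sum] at h
        exact h.symm)
      let zP : P := ⟨m - ∑ i, r i • u i, z, hz.symm⟩
      obtain ⟨c, hc, hcz⟩ := hgen zP (Subtype.ext (by
        show T (m - ∑ i, r i • u i) = m - ∑ i, r i • u i
        simp only [map_sub, map_sum, map_smulₛₗ, hm, hr, hu]))
      have hcz' := congrArg Subtype.val hcz
      rw [Submodule.coe_sum] at hcz'
      refine ⟨Fin.append r c, fun i => ?_, ?_⟩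
      · induction i using Fin.addCases with
        | left i => rw [Fin.append_left]; exact hr i
        | right i => rw [Fin.append_right]; exact hc i
      · rw [Fin.sum_univ_add]
        simp only [Fin.append_left, Fin.append_right]
        exact eq_add_of_sub_eq' hcz'

end Thickening

end Groth.Agent.SigmaLang
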